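import Groth.Agent.Etrest.ModAb
import Groth.Agent.Sga4B.LMLS

/-!
# Abelian étale sheaves killed by `n` are sheaves of `ℤ/n`-modules
-/

set_option autoImplicit false
universe u

open CategoryTheory CategoryTheory.Limits AlgebraicGeometry Opposite

namespace Groth.Agent.Sga2lef.H252.ModOf

open Groth.Agent.Etrest.ModAb Groth.Agent.Sga4B.LMLS

noncomputable section

variable {n : ℕ}

/-- The `ULift (ZMod n)`-module structure on an abelian group killed by `n`. -/
@[reducible] def lamModule {A : Type (u + 1)} [AddCommGroup A] (h : ∀ x : A, n • x = 0) :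
    Module (Lam.{u} n) A :=
  letI := AddCommGroup.zmodModule h
  Module.compHom A (ULift.ringEquiv (R := ZMod n)).toRingHom

theorem map_smul_lam {A B : Type (u + 1)} [AddCommGroup A] [AddCommGroup B]
    (hA : ∀ x : A, n • x = 0) (hB : ∀ x : B, n • x = 0) (f : A →+ B) (c : Lam.{u} n) (x : A) :
    f (@SMul.smul _ _ (lamModule hA).toSMul c x) = @SMul.smul _ _ (lamModule hB).toSMul c (f x) := by
  let _ := AddCommGroup.zmodModule hA
  let _ := AddCommGroup.zmodModule hB
  exact ZMod.map_smul f c.down x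

variable {X : Scheme.{u}} (F : EtCoh.Ab X) (hF : EtCoh.KilledBy n F)

/-- The presheaf of modules. -/
def pre : X.Etaleᵒᵖ ⥤ ModuleCat.{u + 1} (Lam.{u} n) where
  obj U := @ModuleCat.of (Lam.{u} n) _ (F.obj.obj U) _ (lamModule (hF U.unop))
  map {U V} g := @ModuleCat.ofHom (Lam.{u} n) _ (F.obj.obj U) (F.obj.obj V) _ (lamModule (hF U.unop)) _
    (lamModule (hF V.unop))
    (letI := lamModule (hF U.unop)
     letI := lamModule (hF V.unop)
     { toFun := (F.obj.map g).hom
       map_add' := fun x y => map_add (F.obj.map g).hom x y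
       map_smul' := fun c x => map_smul_lam (hF U.unop) (hF V.unop) (F.obj.map g).hom c x })
  map_id U := by
    apply ModuleCat.hom_ext
    refine @LinearMap.ext _ _ _ _ _ _ _ _ (lamModule (hF U.unop)) (lamModule (hF U.unop)) _ _ _ (fun x => ?_)
    change (F.obj.map (𝟙 U)).hom x = x
    rw [F.obj.map_id]
    rfl
  map_comp {U V W} g h := by
    apply ModuleCat.hom_ext
    refine @LinearMap.ext _ _ _ _ _ _ _ _ (lamModule (hF U.unop)) (lamModule (hF W.unop)) _ _ _ (fun x => ?_)
    change (F.obj.map (g ≫ h)).hom x = (F.obj.map h).hom ((F.obj.map g).hom x)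
    rw [F.obj.map_comp]
    rfl

theorem isSheaf_pre : Presheaf.IsSheaf X.smallEtaleTopology (pre F hF) := by
  have h1 : HasLimitsOfSize.{u, u + 1} (ModuleCat.{u + 1} (Lam.{u} n)) :=
    ModuleCat.hasLimitsOfSize.{u, u + 1, u + 1, u + 1}
  have h2 : PreservesLimitsOfSize.{u, u + 1} (fg (Lam.{u} n)) := inferInstance
  have h3 : ReflectsLimitsOfSize.{u, u + 1} (fg (Lam.{u} n)) := reflectsLimits_of_reflectsIsomorphisms
  exact Presheaf.isSheaf_of_isSheaf_comp X.smallEtaleTopology (pre F hF) (fg (Lam.{u} n)) F.property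

/-- The sheaf of modules. -/
def mod : EtModW.Mod (Lam.{u} n) X := ⟨pre F hF, isSheaf_pre F hF⟩

/-- The underlying abelian sheaf is `F`. -/
def abModIso : (ab (Lam.{u} n) X).obj (mod F hF) ≅ F :=
  (fullyFaithfulSheafToPresheaf _ _).preimageIso
    (NatIso.ofComponents (fun _ => Iso.refl _) (fun _ => rfl))

end

/-- **Every abelian étale sheaf killed by `n` underlies a sheaf of `ℤ/n`-modules.** -/
theorem exists_mod {n : ℕ} {X : Scheme.{u}} (F : EtCoh.Ab X) (hF : EtCoh.KilledBy n F) :
    ∃ M : EtModW.Mod (Lam.{u} n) X, Nonempty ((ab (Lam.{u} n) X).obj M ≅ F) :=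
  ⟨mod F hF, ⟨abModIso F hF⟩⟩

end Groth.Agent.Sga2lef.H252.ModOf
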